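import Groth.Prelude.Def_FlatFun
import Groth.Agent.Lib.FunFlat6.Sheaf
import Groth.Agent.Lib.FunFlat6.LimitFunctors
import Groth.Agent.Lib.FTDesc.LocFree
import Groth.Agent.Lib.Euler.Rank
import Groth.Agent.Lib.Ref1.Specialize
import Groth.Agent.Lib.OX.LocFreeTensor
import Groth.Agent.Lib.FibreFlat.InjLocal
import Groth.Agent.Lib.FibreFlat.Stalk
import Groth.Agent.Lib.RedSmooth.Basic

/-!
# Freeness near the generic points of the fibres of a smooth morphism with irreducible fibres
-/

set_option autoImplicit false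
set_option linter.style.haveILetI false
set_option backward.isDefEq.respectTransparency false

universe u

open CategoryTheory CategoryTheory.Limits AlgebraicGeometry Opposite TopologicalSpace IsLocalRing
open scoped TensorProduct

namespace GrothLib.FunFlat8

section Fibres

variable {Y T : Scheme.{u}} (q : Y ⟶ T) [Smooth q] [GeometricallyIrreducible q]

theorem isIntegral_fiber (t : T) : IsIntegral (q.fiber t) := by
  haveI : Smooth (q.fiberToSpecResidueField t) :=
    MorphismProperty.pullback_snd (P := @Smooth) q (T.fromSpecResidueField t) inferInstance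
  haveI : IsReduced (q.fiber t) := RedSmooth.isReduced_of_smooth (q.fiberToSpecResidueField t)
  exact isIntegral_of_irreducibleSpace_of_isReduced _

theorem exists_generic (t : T) : ∃ x : Y, q x = t ∧ FlatFun.IsGenericPtOfFibre q x := by
  haveI := isIntegral_fiber q t
  have hx : q (q.fiberι t (genericPoint (q.fiber t))) = t := FibreFlat.fiberι_comp_apply q t _
  refine ⟨_, hx, fun x' hx' => ?_⟩
  obtain ⟨z, rfl⟩ : x' ∈ Set.range (q.fiberι t) := by rw [q.range_fiberι]; exact hx'.trans hx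
  exact (genericPoint_specializes z).map (q.fiberι t).continuous

/-- The extended maximal ideal of the base is prime in the local rings. -/
theorem isPrime_map_maximalIdeal (y : Y) :
    ((maximalIdeal (T.presheaf.stalk (q y))).map (q.stalkMap y).hom).IsPrime := by
  obtain ⟨z, hz⟩ : y ∈ Set.range (q.fiberι (q y)) := by rw [q.range_fiberι]; rfl
  haveI := isIntegral_fiber q (q y)
  rw [← (FibreFlat.fiberι_stalkMap' q (q y) z y hz).2]
  exact RingHom.ker_isPrime _

/-- A function nonzero on the fibre through a point is a nonzerodivisor near the point. -/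
theorem mul_injective (y : Y) (a : Y.presheaf.stalk y)
    (ha : a ∉ (maximalIdeal (T.presheaf.stalk (q y))).map (q.stalkMap y).hom) :
    Function.Injective (fun c : Y.presheaf.stalk y => a * c) := by
  let R := T.presheaf.stalk (q y)
  let S := Y.presheaf.stalk y
  letI : Algebra R S := (q.stalkMap y).hom.toAlgebra
  haveI : IsLocalHom (algebraMap R S) := inferInstanceAs (IsLocalHom (q.stalkMap y).hom)
  haveI : Module.Flat R S := Flat.stalkMap q y
  have hS : CAlgX.IsEssFinitePresentation R S := FibreFlat.isEssFinitePresentation_stalkMap q y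
  haveI hP : ((maximalIdeal R).map (algebraMap R S)).IsPrime := isPrime_map_maximalIdeal q y
  exact (FibreFlat.injective_flat_coker_local (R := R) hS (LinearMap.lsmul S S a) fun x hx => by
    rw [smul_eq_mul, Ideal.mul_top] at hx ⊢
    exact (hP.mem_or_mem hx).resolve_left ha).1

/-- A germ vanishing at a generization in the same fibre vanishes. -/
theorem spR_injective {x y : Y} (h : x ⤳ y) (hxy : q x = q y) :
    Function.Injective (Ref1.spR h) := by
  rw [injective_iff_map_eq_zero]
  intro c hc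
  obtain ⟨U₁, hy₁, b₁, rfl⟩ := TopCat.Presheaf.exists_germ_eq Y.presheaf c
  obtain ⟨U, hU, hyU, hUU₁⟩ := exists_isAffineOpen_mem_and_subset hy₁
  let b := Y.presheaf.map (homOfLE hUU₁).op b₁
  have hb : Y.presheaf.germ U y hyU b = Y.presheaf.germ U₁ y hy₁ b₁ :=
    TopCat.Presheaf.germ_res_apply Y.presheaf _ _ _ _
  rw [← hb, Ref1.spR_germ] at hc
  rw [← hb]
  have hxU : x ∈ U := h.mem_open U.2 hyU
  obtain ⟨W, hxW, i, i', hW⟩ := TopCat.Presheaf.germ_eq Y.presheaf x hxU hxU b 0 (hc.trans (map_zero _).symm)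
  obtain ⟨f, hf, hxf⟩ := hU.exists_basicOpen_le (V := W) ⟨x, hxW⟩ hxU
  have hb0 : Y.presheaf.map (homOfLE (Y.basicOpen_le f)).op b = 0 := by
    have h1 := congrArg (Y.presheaf.map (homOfLE hf).op) hW
    rw [map_zero, map_zero, ← CommRingCat.comp_apply, ← Functor.map_comp] at h1
    exact h1
  haveI := hU.isLocalization_basicOpen f
  obtain ⟨⟨_, n, rfl⟩, hn⟩ := (IsLocalization.map_eq_zero_iff (Submonoid.powers f) Γ(Y, Y.basicOpen f) b).1 hb0
  have hfP : Y.presheaf.germ U y hyU f ∉ (maximalIdeal (T.presheaf.stalk (q y))).map (q.stalkMap y).hom := by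
    intro hmem
    have hu : IsUnit (Ref1.spR h (Y.presheaf.germ U y hyU f)) := by
      rw [Ref1.spR_germ]; exact (Scheme.mem_basicOpen _ f x hxU).1 hxf
    refine (IsLocalRing.mem_maximalIdeal _).1 (?_ : _ ∈ maximalIdeal (Y.presheaf.stalk x)) hu
    refine (Ideal.map_le_iff_le_comap (f := (q.stalkMap y).hom) (K := (maximalIdeal (Y.presheaf.stalk x)).comap (Ref1.spR h))).2
      (fun m hm => ?_) hmem
    show Ref1.spR h ((q.stalkMap y).hom m) ∈ maximalIdeal _
    rw [IsLocalRing.mem_maximalIdeal]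
    intro hu'
    have hs : q x ⤳ q y := q.base.hom.map_specializes h
    have hnat : Ref1.spR h ((q.stalkMap y).hom m) = (q.stalkMap x).hom (Ref1.spR hs m) :=
      (Scheme.Hom.stalkSpecializes_stalkMap_apply q x y h m).symm
    rw [hnat] at hu'
    have hu'' : IsUnit (Ref1.spR hs m) := isUnit_of_map_unit (q.stalkMap x).hom _ hu'
    have h2 := hu''.map (Ref1.spR (specializes_of_eq hxy.symm : q y ⤳ q x))
    rw [Ref1.spR_spR] at h2
    have h3 : Ref1.spR ((specializes_of_eq hxy.symm : q y ⤳ q x).trans hs) m = m := by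
      show (T.presheaf.stalkSpecializes (specializes_refl (q y))).hom m = m
      rw [TopCat.Presheaf.stalkSpecializes_refl]
      rfl
    rw [h3] at h2
    exact (IsLocalRing.mem_maximalIdeal _).1 hm h2
  have hinj := mul_injective q y _ (fun hmem => hfP hmem)
  have hpow : Function.Injective fun c : Y.presheaf.stalk y => (Y.presheaf.germ U y hyU f) ^ n * c := by
    clear hn
    induction n with
    | zero => intro a b; simp
    | succ k ih =>
      intro a b hab
      exact hinj (ih (by simpa [pow_succ, mul_assoc] using hab))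
  refine hpow ?_
  show _ * _ = _ * _
  rw [mul_zero, ← map_pow, ← map_mul, hn, map_zero]

end Fibres

theorem stalk_basis_of_freeNear {X : Scheme.{u}} {F : X.Modules} {p : ℕ} {x : X}
    (h : FlatFun.IsFreeOfRankNear F p x) :
    Nonempty (Module.Basis (Fin p) (X.presheaf.stalk x) (F.presheaf.stalk x)) := by
  obtain ⟨U, hx, ⟨φ⟩⟩ := h
  obtain ⟨e, he⟩ := FinCov.exists_frame_of_iso φ
  exact Euler.stalk_basis_of_frame he (by rw [Scheme.Opens.ι_image_top]; exact hx)

theorem finite_stalk {X : Scheme.{u}} {F : X.Modules} (hF : CohB1.IsFT F) (x : X) :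
    Module.Finite (X.presheaf.stalk x) (F.presheaf.stalk x) := by
  obtain ⟨W, ι, _, m, hy, hgen⟩ := HomSh.exists_genOn F hF x
  exact ⟨(hgen x hy) ▸ Submodule.fg_span (Set.finite_range _)⟩

theorem stalk_basis_descend {Z X : Scheme.{u}} (g : Z ⟶ X) [Flat g] (F : X.Modules) (hF : CohB1.IsFT F)
    {p : ℕ} (z : Z)
    (h : Nonempty (Module.Basis (Fin p) (Z.presheaf.stalk z) (((Scheme.Modules.pullback g).obj F).presheaf.stalk z))) :
    Nonempty (Module.Basis (Fin p) (X.presheaf.stalk (g z)) (F.presheaf.stalk (g z))) := by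
  obtain ⟨b⟩ := h
  haveI := Module.Free.of_basis b
  haveI := finite_stalk hF (g z)
  obtain ⟨hfree, hrk⟩ := FTDesc.stalk_free_of_pullback g F z
  haveI := hfree
  exact ⟨Module.finBasisOfFinrankEq _ _ (by rw [← hrk, Module.finrank_eq_card_basis b, Fintype.card_fin])⟩

theorem freeNear_pullback {Z X : Scheme.{u}} (g : Z ⟶ X) {F : X.Modules} {p : ℕ} {z : Z}
    (h : FlatFun.IsFreeOfRankNear F p (g z)) :
    FlatFun.IsFreeOfRankNear ((Scheme.Modules.pullback g).obj F) p z := by
  obtain ⟨U, hx, ⟨e⟩⟩ := h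
  exact ⟨g ⁻¹ᵁ U, hx, ⟨(OX.pullSquareIso g U).app F ≪≫ (Scheme.Modules.pullback (g ∣_ U)).mapIso e ≪≫
    OX.pullFreeModIso _ p⟩⟩

theorem freeNear_of_iso {X : Scheme.{u}} {F G : X.Modules} (i : F ≅ G) {p : ℕ} {x : X}
    (h : FlatFun.IsFreeOfRankNear F p x) : FlatFun.IsFreeOfRankNear G p x := by
  obtain ⟨U, hx, ⟨e⟩⟩ := h
  exact ⟨U, hx, ⟨((Scheme.Modules.restrictFunctor U.ι).mapIso i).symm ≪≫ e⟩⟩

/-- Free stalks at all generic points of fibres give freeness near them. -/
theorem freeNear_of_stalks {Y T : Scheme.{u}} (q : Y ⟶ T) [Smooth q] [GeometricallyIrreducible q]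
    {F : Y.Modules} (hF : CohB1.IsFT F) (p : ℕ)
    (hb : ∀ x : Y, FlatFun.IsGenericPtOfFibre q x →
      Nonempty (Module.Basis (Fin p) (Y.presheaf.stalk x) (F.presheaf.stalk x)))
    (x : Y) (hx : FlatFun.IsGenericPtOfFibre q x) : FlatFun.IsFreeOfRankNear F p x := by
  classical
  obtain ⟨b⟩ := hb x hx
  choose W hW t ht using fun j => TopCat.Presheaf.exists_germ_eq F.presheaf (b j)
  let U₀ : Y.Opens := ⟨⋂ j, (W j : Set Y), isOpen_iInter_of_finite fun j => (W j).isOpen⟩
  have hU₀ : ∀ j, U₀ ≤ W j := fun j z hz => Set.mem_iInter.1 hz j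
  have hxU : x ∈ U₀ := Set.mem_iInter.2 hW
  let t₀ : ULift.{u} (Fin p) → Γ(F, U₀) := fun j => F.presheaf.map (homOfLE (hU₀ j.down)).op (t j.down)
  have hspan : FTDesc.SpanAt F t₀ x hxU := by
    refine eq_top_iff.2 (b.span_eq.ge.trans (Submodule.span_le.2 ?_))
    rintro _ ⟨j, rfl⟩
    exact Submodule.subset_span ⟨⟨j⟩, (TopCat.Presheaf.germ_res_apply F.presheaf _ _ _ _).trans (ht j)⟩
  obtain ⟨V, hV, hxV, hVs⟩ := FTDesc.exists_nhd_spanAt hF t₀ hxU hspan
  let e : Fin p → Γ(F, V) := fun j => F.presheaf.map (homOfLE hV).op (t₀ ⟨j⟩)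
  refine ⟨V, hxV, FinCov.exists_iso_of_frame (e := e) (Ref1.isFrame_of_stalk fun z hz => ?_)⟩
  have hsurj : ∀ z (hz : z ∈ V), Function.Surjective (Ref1.stalkComb e z hz) := fun z hz => by
    rw [← LinearMap.range_eq_top, Ref1.stalkComb, Fintype.range_linearCombination]
    refine eq_top_iff.2 ((hVs z hz).ge.trans (Submodule.span_mono ?_))
    rintro _ ⟨j, rfl⟩
    exact ⟨j.down, TopCat.Presheaf.germ_res_apply F.presheaf _ _ _ _⟩
  refine ⟨?_, hsurj z hz⟩
  rw [injective_iff_map_eq_zero]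
  intro c hc
  obtain ⟨x', hx', hgen⟩ := exists_generic q (q z)
  have hsp : x' ⤳ z := hgen z hx'.symm
  have hz' : x' ∈ V := hsp.mem_open V.2 hz
  obtain ⟨b'⟩ := hb x' hgen
  have hinj : Function.Injective (Ref1.stalkComb e x' hz') := fun a a' haa => by
    have hi := OrzechProperty.injective_of_surjective_endomorphism
      (b'.equivFun.toLinearMap.comp (Ref1.stalkComb e x' hz'))
      (b'.equivFun.surjective.comp (hsurj x' hz'))
    exact hi (congrArg b'.equivFun haa)
  have h0 : Ref1.stalkComb e x' hz' (fun i => Ref1.spR hsp (c i)) = 0 := by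
    have h1 := congrArg (Ref1.sp F hsp) hc
    rw [map_zero, Ref1.stalkComb, Fintype.linearCombination_apply, map_sum] at h1
    rw [Ref1.stalkComb, Fintype.linearCombination_apply, ← h1]
    exact Finset.sum_congr rfl fun i _ => by rw [Ref1.sp_smul, Ref1.sp_germ]
  funext i
  refine spR_injective q hsp hx' ?_
  rw [Pi.zero_apply, map_zero]
  exact congrFun (hinj (h0.trans (map_zero _).symm)) i

variable {X S : Scheme.{u}} (f : X ⟶ S) [Smooth f] [GeometricallyIrreducible f] (F : X.Modules)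

/-- The condition defining the functor. -/
abbrev FreeGen (p : ℕ) (T : Over S) : Prop :=
  FlatFun.FreeAtGenericPts (PicF.XTproj f T) (FGA.ET f F T) p

omit [Smooth f] [GeometricallyIrreducible f] in
theorem generic_image {T T₀ : Over S} (g : T ⟶ T₀) {z : PicF.XT f T}
    (hz : FlatFun.IsGenericPtOfFibre (PicF.XTproj f T) z) :
    FlatFun.IsGenericPtOfFibre (PicF.XTproj f T₀) (PicF.XTmap f g z) := by
  have sq := FunFlat6.isPullback_XTmap f g
  have hw : ∀ w, PicF.XTproj f T₀ (PicF.XTmap f g w) = g.left (PicF.XTproj f T w) := fun w => by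
    rw [← Scheme.Hom.comp_apply, ← Scheme.Hom.comp_apply, sq.w]
  intro x' hx'
  obtain ⟨w, hw1, hw2⟩ := Scheme.exists_preimage_of_isPullback sq x' (PicF.XTproj f T z) (hx'.trans (hw z))
  exact hw1 ▸ (hz w hw2).map (PicF.XTmap f g).continuous

theorem freeGen_stable {p : ℕ} {T T₀ : Over S} (g : T ⟶ T₀) (h : FreeGen f F p T₀) : FreeGen f F p T := by
  intro t
  haveI : Smooth (PicF.XTproj f T) := MorphismProperty.pullback_snd (P := @Smooth) _ _ inferInstance
  haveI : GeometricallyIrreducible (PicF.XTproj f T) := inferInstanceAs (GeometricallyIrreducible (pullback.snd f T.hom))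
  obtain ⟨z, hz, hgen⟩ := exists_generic (PicF.XTproj f T) t
  refine ⟨z, hz, hgen, freeNear_of_iso (FGA.ETiso f F g) (freeNear_pullback (PicF.XTmap f g) ?_)⟩
  obtain ⟨x, hx, hxgen, hfree⟩ := h (PicF.XTproj f T₀ (PicF.XTmap f g z))
  rwa [← ((hxgen _ hx.symm).antisymm (generic_image f g hgen x hx)).eq]

theorem freeGen_local [F.IsQuasicoherent] (hF : CohB1.IsFT F) (p : ℕ) {T : Over S} {ι : Type*}
    (Ti : ι → Over S) (g : ∀ i, Ti i ⟶ T)
    (hfl : ∀ i, Flat (g i).left) (hsurj : ∀ t : T.left, ∃ i, t ∈ Set.range (g i).left)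
    (h : ∀ i, FreeGen f F p (Ti i)) : FreeGen f F p T := by
  haveI : Smooth (PicF.XTproj f T) := MorphismProperty.pullback_snd (P := @Smooth) _ _ inferInstance
  haveI : GeometricallyIrreducible (PicF.XTproj f T) := inferInstanceAs (GeometricallyIrreducible (pullback.snd f T.hom))
  intro t
  obtain ⟨x₀, hx₀, hgen₀⟩ := exists_generic (PicF.XTproj f T) t
  refine ⟨x₀, hx₀, hgen₀, freeNear_of_stalks _ (FunFlat6.isFT_pullback _ F hF) p (fun x hx => ?_) x₀ hgen₀⟩
  obtain ⟨i, ti, hti⟩ := hsurj (PicF.XTproj f T x)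
  obtain ⟨z, hz, hzgen, hfree⟩ := h i ti
  have heq : PicF.XTproj f T (PicF.XTmap f (g i) z) = PicF.XTproj f T x := by
    rw [← hti, ← hz, ← Scheme.Hom.comp_apply, ← Scheme.Hom.comp_apply, (FunFlat6.isPullback_XTmap f (g i)).w]
  have hzx : PicF.XTmap f (g i) z = x :=
    ((generic_image f (g i) hzgen x heq.symm).antisymm (hx _ heq)).eq
  haveI := hfl i
  haveI := FunFlat6.flat_XTmap f (g i)
  obtain ⟨b⟩ := stalk_basis_descend (PicF.XTmap f (g i)) _ (FunFlat6.isFT_pullback _ F hF) z
    (stalk_basis_of_freeNear (freeNear_of_iso (FGA.ETiso f F (g i)).symm hfree))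
  subst hzx
  exact ⟨b⟩

theorem isSheaf_freeGen [F.IsQuasicoherent] (hF : CohB1.IsFT F) (p : ℕ) :
    Presheaf.IsSheaf (QuotSh.J Scheme.fpqcPrecoverage S) (FlatFun.genPSp S (FreeGen f F p)) :=
  FunFlat6.isSheaf_genPSp _ (fun _ _ g h => freeGen_stable f F g h)
    fun _ _ Ti g hfl hsurj h => freeGen_local f F hF p Ti g hfl hsurj h

end GrothLib.FunFlat8
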