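import Groth.Agent.Lib.FunFlat8.FreeGenLimit
import Groth.Agent.Lib.FibreFree20.Basic
import Groth.Agent.Lib.Chev28.SectComp
import Groth.Agent.Lib.Equidim6.CondTOpen
import Groth.Agent.Lib.FibreDimAt6.Smooth

/-!
# Flatness in the top dimension and freeness near the generic points of the fibres
-/

set_option autoImplicit false
set_option linter.style.haveILetI false
set_option backward.isDefEq.respectTransparency false

universe u

open CategoryTheory CategoryTheory.Limits AlgebraicGeometry Opposite TopologicalSpace IsLocalRing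
open scoped TensorProduct

namespace GrothLib.FunFlat8

section Trdeg

variable {Y T : Scheme.{u}} (q : Y ⟶ T) (d : ℕ) [SmoothOfRelativeDimension d q] [GeometricallyIrreducible q]

omit [GeometricallyIrreducible q] in
theorem resTrdeg_generic {x : Y} (hx : FlatFun.IsGenericPtOfFibre q x) : Dual3.resTrdeg q x = (d : Cardinal) := by
  haveI : Smooth q := SmoothOfRelativeDimension.smooth d q
  obtain ⟨n, hn, hdim⟩ := Equidim6.fibreDimAt_eq_resTrdeg q x fun z hz hzx => (hzx.antisymm (hx z hz)).eq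
  rw [FibreDimAt6.fibreDimAt_eq_of_smooth d q x] at hdim
  rw [hn, show n = d from (by exact_mod_cast hdim.symm)]

theorem resTrdeg_lt_of_not_generic {x : Y} (hx : ¬ FlatFun.IsGenericPtOfFibre q x) :
    Dual3.resTrdeg q x < (d : Cardinal) := by
  haveI : Smooth q := SmoothOfRelativeDimension.smooth d q
  obtain ⟨x', hx', hgen⟩ := exists_generic q (q x)
  obtain ⟨k, hk, -⟩ := Altitude.exists_trdeg_eq_dim_closure q x
  have hk' : Dual3.resTrdeg q x = k := hk
  rw [hk', Nat.cast_lt]
  by_contra hle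
  exact hx (Chev28.eq_of_specializes_of_le_resTrdeg q (hgen x hx'.symm) hx'.symm (resTrdeg_generic q d hgen) hk'
    (not_lt.1 hle) ▸ hgen)

end Trdeg

/-- Flatness over the base at the generic point of a fibre makes the module free near it. -/
theorem exists_freeNear_of_flatAt {Y T : Scheme.{u}} (q : Y ⟶ T) [Smooth q] [GeometricallyIrreducible q]
    (F : Y.Modules) [F.IsQuasicoherent] (hF : CohB1.IsFP F) {x : Y} (hx : FlatFun.IsGenericPtOfFibre q x)
    (hfl : FlatMod.IsFlatOverAt q F x) : ∃ n, FlatFun.IsFreeOfRankNear F n x := by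
  haveI := isIntegral_fiber q (q x)
  obtain ⟨x', hx'⟩ : ∃ x', x' = q.fiberι (q x) (genericPoint (q.fiber (q x))) := ⟨_, rfl⟩
  have hqx' : q x' = q x := hx'.symm ▸ FibreFlat.fiberι_comp_apply q (q x) _
  obtain ⟨w, hw⟩ : x ∈ Set.range (q.fiberι (q x)) := by rw [q.range_fiberι]; rfl
  have hxx' : x' = x := by
    refine (Specializes.antisymm ?_ (hx x' hqx')).eq
    have h1 := (genericPoint_specializes w).map (q.fiberι (q x)).continuous
    rw [hw, ← hx'] at h1
    exact h1
  let z := genericPoint (q.fiber (q x))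
  obtain ⟨hsurj, hker⟩ := FibreFlat.fiberι_stalkMap' q (q x) z x (hx'.symm.trans hxx')
  let A := T.presheaf.stalk (q x)
  let B := Y.presheaf.stalk x
  let Q := (q.fiber (q x)).presheaf.stalk z
  letI : Algebra A B := (q.stalkMap x).hom.toAlgebra
  haveI : IsLocalHom (algebraMap A B) := inferInstanceAs (IsLocalHom (q.stalkMap x).hom)
  letI : Algebra B Q := ((Y.presheaf.stalkCongr (.of_eq (hx'.symm.trans hxx').symm)).hom ≫
    (q.fiberι (q x)).stalkMap z).hom.toAlgebra
  haveI : Module.Flat A B := Flat.stalkMap q x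
  let M := F.presheaf.stalk x
  letI : Module A M := FlatMod.moduleStalkOver q F x
  haveI : IsScalarTower A B M := IsScalarTower.of_algebraMap_smul fun _ _ => rfl
  haveI : Module.Flat A M := hfl
  haveI := CritMod6.finitePresentation_stalk F hF x
  haveI : Module.Free Q (Q ⊗[B] M) :=
    letI : Field Q := inferInstanceAs (Field (q.fiber (q x)).functionField)
    Module.Free.of_divisionRing Q _
  haveI : Nontrivial Q := inferInstanceAs (Nontrivial (q.fiber (q x)).functionField)
  haveI := RhoShBig.free_of_fibre_free (A := A) (B := B) (F := Q)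
    (FibreFlat.isEssFinitePresentation_stalkMap q x) hsurj hker M
  obtain ⟨U, n, hxU, hU⟩ := RhoShBig.exists_free_nhd_of_stalk F hF x inferInstance inferInstance
  exact ⟨n, U, hxU, hU⟩

theorem flatAt_of_freeStalk {Y T : Scheme.{u}} (q : Y ⟶ T) [Flat q] (F : Y.Modules) [F.IsQuasicoherent]
    (hF : CohB1.IsFP F) {p : ℕ} {x : Y}
    (h : Nonempty (Module.Basis (Fin p) (Y.presheaf.stalk x) (F.presheaf.stalk x))) :
    FlatMod.IsFlatOverAt q F x := by
  obtain ⟨b⟩ := h
  have h1 := FunFlat6.isFlatOverAt_comp' (𝟙 Y) q F x (Flat.stalkMap q x)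
    ((CritMod6.isFlatOverAt_id_iff_free F hF x).2 (Module.Free.of_basis b))
  exact (FunFlat6.isFlatOverAt_congr_map (Category.id_comp q) F x).1 h1

/-- On an affine scheme the ranks of the pullbacks of a module of finite type are bounded. -/
theorem exists_rank_bound {X : Scheme.{u}} [IsAffine X] (F : X.Modules) [F.IsQuasicoherent] (hF : CohB1.IsFT F) :
    ∃ c : ℕ, ∀ {Z : Scheme.{u}} (g : Z ⟶ X) (z : Z) (n : ℕ),
      Nonempty (Module.Basis (Fin n) (Z.presheaf.stalk z) (((Scheme.Modules.pullback g).obj F).presheaf.stalk z)) →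
        n ≤ c := by
  haveI := QCoh.moduleFinite_of_isFiniteType F hF (isAffineOpen_top X)
  obtain ⟨c, m, hm⟩ := Module.Finite.exists_fin (R := Γ(X, ⊤)) (M := Γ(F, ⊤))
  refine ⟨c, fun {Z} g z n ⟨b⟩ => ?_⟩
  have hx : g z ∈ (⊤ : X.Opens) := trivial
  letI := X.presheaf.algebra_section_stalk ⟨g z, hx⟩
  letI : Module Γ(X, ⊤) (F.presheaf.stalk (g z)) := Module.compHom _ (X.presheaf.germ ⊤ (g z) hx).hom
  haveI : IsScalarTower Γ(X, ⊤) (X.presheaf.stalk (g z)) (F.presheaf.stalk (g z)) :=
    IsScalarTower.of_algebraMap_smul fun _ _ => rfl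
  haveI := FlatFP.isLocalization_stalk_primeAt (isAffineOpen_top X) hx
  obtain ⟨γ, hγ, -⟩ := FlatFP.isLocalizedModule_germ F (isAffineOpen_top X) hx
  let B := X.presheaf.stalk (g z)
  let S := Z.presheaf.stalk z
  let M := F.presheaf.stalk (g z)
  letI : Algebra B S := (g.stalkMap z).hom.toAlgebra
  haveI := hγ
  have hspan : Submodule.span B (Set.range (γ ∘ m)) = ⊤ := by
    refine eq_top_iff.2 fun y _ => ?_
    obtain ⟨⟨a, s⟩, has⟩ := IsLocalizedModule.surj (WeakAss.primeAt (g z) hx).primeCompl γ y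
    have ha : γ a ∈ Submodule.span B (Set.range (γ ∘ m)) := by
      have h1 : a ∈ Submodule.span Γ(X, ⊤) (Set.range m) := hm ▸ Submodule.mem_top
      have h2 := Submodule.mem_map_of_mem (f := γ) h1
      rw [Submodule.map_span, ← Set.range_comp] at h2
      exact Submodule.span_le_restrictScalars Γ(X, ⊤) B _ h2
    obtain ⟨u, hu⟩ := IsLocalization.map_units B s
    have hy : y = (↑u⁻¹ : B) • γ a := by
      rw [← has, Submonoid.smul_def, ← algebraMap_smul B (s : Γ(X, ⊤)) y, ← hu, smul_smul, Units.inv_mul, one_smul]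
    exact hy ▸ Submodule.smul_mem _ _ ha
  let φ : (Fin c → B) →ₗ[B] M := Fintype.linearCombination B (γ ∘ m)
  have hφ : Function.Surjective φ := by
    rw [← LinearMap.range_eq_top, Fintype.range_linearCombination, hspan]
  let e : ((Scheme.Modules.pullback g).obj F).presheaf.stalk z ≃ₗ[S] S ⊗[B] M :=
    ((OX.pullStalkIso g z).app F).toLinearEquiv
  let ψ : (Fin c → S) →ₗ[S] S ⊗[B] M :=
    (φ.baseChange S).comp (TensorProduct.piScalarRight B S S (Fin c)).symm.toLinearMap
  have hψ : Function.Surjective ψ :=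
    (LinearMap.lTensor_surjective S hφ).comp (LinearEquiv.surjective _)
  exact le_of_fin_surjective S ((e.symm.trans b.equivFun).toLinearMap.comp ψ)
    ((e.symm.trans b.equivFun).surjective.comp hψ)

variable {X S : Scheme.{u}} (f : X ⟶ S) (d : ℕ) [SmoothOfRelativeDimension d f] [GeometricallyIrreducible f]
  (F : X.Modules) [F.IsQuasicoherent]

/-- Flatness in the top dimension is local freeness near the generic points of the fibres. -/
theorem flatDimGE_iff_freeGen [IsAffine X] (hF : CohB1.IsFP F) :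
    ∃ c : ℕ, ∀ T : Over S, FunFlat6.FlatDimGE f F d T ↔
      ∀ t : T.left, ∃ (V : T.left.Opens) (p : ℕ), t ∈ V ∧ p ≤ c ∧ FreeGen f F p (Over.mk (V.ι ≫ T.hom)) := by
  obtain ⟨c, hc⟩ := exists_rank_bound F
    ((QCoh.isFiniteType_iff_moduleFinite _).2 fun V hV => haveI := FlatFP.finitePresentation_sections F hF hV; inferInstance)
  haveI : Smooth f := SmoothOfRelativeDimension.smooth d f
  haveI hd : ∀ T : Over S, SmoothOfRelativeDimension d (PicF.XTproj f T) := fun T =>
    (smoothOfRelativeDimension_isStableUnderBaseChange d).of_isPullback (IsPullback.of_hasPullback f T.hom) inferInstance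
  haveI hsm : ∀ T : Over S, Smooth (PicF.XTproj f T) := fun T => SmoothOfRelativeDimension.smooth d _
  haveI hgi : ∀ T : Over S, GeometricallyIrreducible (PicF.XTproj f T) := fun T =>
    inferInstanceAs (GeometricallyIrreducible (pullback.snd f T.hom))
  haveI hqc : ∀ T : Over S, (FGA.ET f F T).IsQuasicoherent := fun T =>
    FittSheaf.isQuasicoherent_pullback (pullback.fst f T.hom) F
  have hfp : ∀ T : Over S, CohB1.IsFP (FGA.ET f F T) := fun T => FittSheaf.isFP_pullback _ F hF
  refine ⟨c, fun T => ⟨fun h t => ?_, fun h x hx => ?_⟩⟩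
  · obtain ⟨x, hxt, hgen⟩ := exists_generic (PicF.XTproj f T) t
    have hfl : FlatMod.IsFlatOverAt (PicF.XTproj f T) (FGA.ET f F T) x := by
      by_contra hne
      exact (h x hne).not_ge (resTrdeg_generic (PicF.XTproj f T) d hgen).ge
    obtain ⟨n, U, hxU, hU⟩ := exists_freeNear_of_flatAt _ _ (hfp T) hgen hfl
    let V : T.left.Opens := ⟨PicF.XTproj f T '' U, (PicF.XTproj f T).isOpenMap _ U.isOpen⟩
    let g : Over.mk (V.ι ≫ T.hom) ⟶ T := Over.homMk V.ι rfl
    refine ⟨V, n, ⟨x, hxU, hxt⟩, hc _ x n (stalk_basis_of_freeNear ⟨U, hxU, hU⟩), fun t' => ?_⟩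
    obtain ⟨z, hz, hzgen⟩ := exists_generic (PicF.XTproj f (Over.mk (V.ι ≫ T.hom))) t'
    obtain ⟨x', hx', hxt'⟩ : V.ι t' ∈ V := t'.2
    have hw : PicF.XTproj f T (PicF.XTmap f g z) = V.ι t' := by
      rw [← Scheme.Hom.comp_apply, (FunFlat6.isPullback_XTmap f g).w, Scheme.Hom.comp_apply, hz]
      rfl
    have hzU : PicF.XTmap f g z ∈ U :=
      (generic_image f g hzgen x' (hxt'.trans hw.symm)).mem_open U.2 hx'
    exact ⟨z, hz, hzgen, freeNear_of_iso (FGA.ETiso f F g) (freeNear_pullback _ ⟨U, hzU, hU⟩)⟩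
  · refine resTrdeg_lt_of_not_generic (PicF.XTproj f T) d fun hgen => hx ?_
    obtain ⟨V, p, hV, -, hfree⟩ := h (PicF.XTproj f T x)
    let g : Over.mk (V.ι ≫ T.hom) ⟶ T := Over.homMk V.ι rfl
    obtain ⟨z, hz, hzgen, hzfree⟩ := hfree ⟨_, hV⟩
    have hw : PicF.XTproj f T (PicF.XTmap f g z) = PicF.XTproj f T x := by
      rw [← Scheme.Hom.comp_apply, (FunFlat6.isPullback_XTmap f g).w, Scheme.Hom.comp_apply, hz]
      rfl
    have hzx : PicF.XTmap f g z = x := ((generic_image f g hzgen x hw.symm).antisymm (hgen _ hw)).eq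
    haveI : Flat g.left := inferInstanceAs (Flat V.ι)
    haveI := FunFlat6.flat_XTmap f g
    have hb := stalk_basis_descend (PicF.XTmap f g) (FGA.ET f F T)
      (FunFlat6.isFT_pullback _ F
        ((QCoh.isFiniteType_iff_moduleFinite _).2 fun V hV => haveI := FlatFP.finitePresentation_sections F hF hV; inferInstance)) z
      (stalk_basis_of_freeNear (freeNear_of_iso (FGA.ETiso f F g).symm hzfree))
    rw [← hzx]
    exact flatAt_of_freeStalk _ _ (hfp T) hb

end GrothLib.FunFlat8
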