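import Groth.Agent.Lib.FunFlat8.FreeGen
import Groth.Agent.Lib.FunFlat6.FlatDimLimit
import Groth.Agent.Lib.CritMod6.Main
import Groth.Agent.Lib.RhoShBig.Free

/-!
# Freeness near the generic points of the fibres descends along limits
-/

set_option autoImplicit false
set_option linter.style.haveILetI false
set_option backward.isDefEq.respectTransparency false

universe u

open CategoryTheory CategoryTheory.Limits AlgebraicGeometry Opposite TopologicalSpace IsLocalRing
open scoped TensorProduct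

namespace GrothLib.FunFlat8

open GrothLib.FunFlat6

variable {X S : Scheme.{u}} (f : X ⟶ S) (F : X.Modules) [F.IsQuasicoherent]
  {I : Type u} [SmallCategory I] [IsCofiltered I] (D : I ⥤ Over S) (c : Cone D)

set_option maxHeartbeats 1000000 in
/-- Freeness near a point of the limit comes from a stage. -/
theorem exists_stage_freeNear (hF : CohB1.IsFP F) (hc : IsLimit ((Over.forget S).mapCone c))
    [hD : ∀ i, IsAffine (D.obj i).left] [hT : IsAffine c.pt.left] (p : ℕ)
    (z : PicF.XT f c.pt) (h : FlatFun.IsFreeOfRankNear (FGA.ET f F c.pt) p z) :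
    ∃ k : I, FlatFun.IsFreeOfRankNear (FGA.ET f F (D.obj k)) p (PicF.XTmap f (c.π.app k) z) := by
  obtain ⟨i₀⟩ : Nonempty I := IsCofiltered.nonempty
  haveI : ∀ i, IsAffine ((D ⋙ Over.forget S).obj i) := fun i => inferInstanceAs (IsAffine (D.obj i).left)
  haveI : IsAffine ((Over.forget S).mapCone c).pt := hT
  haveI (i j : I) (φ : i ⟶ j) : IsAffineHom ((D ⋙ Over.forget S).map φ) := inferInstance
  let g₀ : PicF.XT f (D.obj i₀) ⟶ (D ⋙ Over.forget S).obj i₀ := PicF.XTproj f (D.obj i₀)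
  haveI : (FGA.ET f F (D.obj i₀)).IsQuasicoherent :=
    FittSheaf.isQuasicoherent_pullback (pullback.fst f (D.obj i₀).hom) F
  have hFP : CohB1.IsFP (FGA.ET f F (D.obj i₀)) := FittSheaf.isFP_pullback _ F hF
  have hY : IsPullback (PicF.XTmap f (c.π.app i₀)) (PicF.XTproj f c.pt) g₀
      (((Over.forget S).mapCone c).π.app i₀) := isPullback_XTmap f (c.π.app i₀)
  have hX : IsPullback (PicF.XTmap f (c.π.app i₀)) (𝟙 _) (𝟙 _) (PicF.XTmap f (c.π.app i₀)) :=
    IsPullback.id_vert _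
  haveI hqc : (FGA.ET f F c.pt).IsQuasicoherent :=
    FittSheaf.isQuasicoherent_pullback (pullback.fst f c.pt.hom) F
  have hfl : FlatMod.IsFlatOverAt (𝟙 _) (FGA.ET f F c.pt) z := by
    rw [CritMod6.isFlatOverAt_id_iff_free _ (FittSheaf.isFP_pullback _ F hF)]
    obtain ⟨b⟩ := stalk_basis_of_freeNear h
    exact Module.Free.of_basis b
  obtain ⟨k, hk⟩ := FlatLimit.exists_stage_flatAt (D ⋙ Over.forget S) hc (𝟙 _) g₀ hY hX
    (FGA.ET f F (D.obj i₀)) hFP z ((FlatFP.isFlatOverAt_congr _ (FGA.ETiso f F (c.π.app i₀)) z).2 hfl)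
  refine ⟨k.left, ?_⟩
  let mn := (LimDesc.mapNat (D ⋙ Over.forget S) i₀ g₀ (𝟙 _ ≫ g₀) (𝟙 _) rfl).app k
  let pr := pullback.fst (𝟙 _ ≫ g₀) ((D ⋙ Over.forget S).map k.hom)
  let cE := LimDesc.cone (c := (Over.forget S).mapCone c) (D ⋙ Over.forget S) i₀ (𝟙 _ ≫ g₀) (hX.paste_vert hY)
  let y := cE.π.app k z
  haveI : IsIso mn :=
    (LimDesc.isPullback_mapNat (D ⋙ Over.forget S) i₀ g₀ (𝟙 _ ≫ g₀) (𝟙 _) rfl k).isIso_snd_of_isIso
  -- the stage is isomorphic to the base change
  have hZ : IsPullback pr (pullback.snd (𝟙 _ ≫ g₀) ((D ⋙ Over.forget S).map k.hom)) g₀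
      ((D ⋙ Over.forget S).map k.hom) :=
    (IsPullback.of_hasPullback _ _).of_iso (Iso.refl _) (Iso.refl _) (Iso.refl _) (Iso.refl _)
      (by simp [pr]) (by simp) (by simp) (by simp)
  have hT' : IsPullback (PicF.XTmap f (D.map k.hom)) (PicF.XTproj f (D.obj k.left)) g₀
      ((D ⋙ Over.forget S).map k.hom) := isPullback_XTmap f (D.map k.hom)
  let e := hZ.isoIsPullback _ _ hT'
  have hpt : e.hom y = PicF.XTmap f (c.π.app k.left) z := by
    have heq : cE.π.app k ≫ e.hom = PicF.XTmap f (c.π.app k.left) := by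
      refine hT'.hom_ext ?_ ?_
      · refine (Category.assoc _ _ _).trans ?_
        refine (congrArg (cE.π.app k ≫ ·) (IsPullback.isoIsPullback_hom_fst _ _ hZ hT')).trans ?_
        refine (pullback.lift_fst _ _ _).trans ?_
        exact ((congrArg (PicF.XTmap f) (c.w k.hom)).symm.trans (XTmap_comp f _ _))
      · refine (Category.assoc _ _ _).trans ?_
        refine (congrArg (cE.π.app k ≫ ·) (IsPullback.isoIsPullback_hom_snd _ _ hZ hT')).trans ?_
        refine (pullback.lift_snd _ _ _).trans ?_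
        exact (congrArg (· ≫ _) (Category.id_comp _)).trans (isPullback_XTmap f (c.π.app k.left)).w.symm
    rw [← heq]
    rfl
  -- the stalk at the stage is free
  have hflE : FlatMod.IsFlatOverAt mn ((Scheme.Modules.pullback pr).obj (FGA.ET f F (D.obj i₀))) y := hk
  let P := (Scheme.Modules.pullback pr).obj (FGA.ET f F (D.obj i₀))
  have hid : FlatMod.IsFlatOverAt (𝟙 _) P y := by
    have h1 := FunFlat6.isFlatOverAt_comp' mn (inv mn) P y (Flat.stalkMap _ _) hflE
    exact (FunFlat6.isFlatOverAt_congr_map (IsIso.hom_inv_id mn) P y).1 h1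
  haveI hPqc : P.IsQuasicoherent := FittSheaf.isQuasicoherent_pullback pr _
  have hPfp : CohB1.IsFP P := FittSheaf.isFP_pullback pr _ hFP
  haveI := (CritMod6.isFlatOverAt_id_iff_free P hPfp y).1 hid
  haveI : Module.Finite _ (P.presheaf.stalk y) := finite_stalk (isFT_pullback pr _ ((QCoh.isFiniteType_iff_moduleFinite _).2 fun V hV => haveI := FlatFP.finitePresentation_sections _ hFP hV; inferInstance)) y
  obtain ⟨U, n, hyU, hU⟩ := RhoShBig.exists_free_nhd_of_stalk P hPfp y inferInstance inferInstance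
  have iso : (Scheme.Modules.pullback e.inv).obj P ≅ FGA.ET f F (D.obj k.left) :=
    (Scheme.Modules.pullbackComp e.inv pr).app _ ≪≫
      (Scheme.Modules.pullbackCongr (IsPullback.isoIsPullback_inv_fst _ _ hZ hT')).app _ ≪≫
        FGA.ETiso f F (D.map k.hom)
  have hfree : FlatFun.IsFreeOfRankNear (FGA.ET f F (D.obj k.left)) n (PicF.XTmap f (c.π.app k.left) z) := by
    refine freeNear_of_iso iso (freeNear_pullback e.inv ?_)
    have : e.inv (PicF.XTmap f (c.π.app k.left) z) = y := by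
      rw [← hpt, ← Scheme.Hom.comp_apply, e.hom_inv_id]; rfl
    exact this.symm ▸ ⟨U, hyU, hU⟩
  obtain ⟨b⟩ := stalk_basis_of_freeNear
    (freeNear_of_iso (FGA.ETiso f F (c.π.app k.left)) (freeNear_pullback (PicF.XTmap f (c.π.app k.left)) hfree))
  obtain ⟨b'⟩ := stalk_basis_of_freeNear h
  obtain rfl : n = p := by simpa using Fintype.card_congr (b.indexEquiv b')
  exact hfree

variable [Smooth f] [GeometricallyIrreducible f]

theorem isLimitPreserving_freeGen (hF : CohB1.IsFP F) (p : ℕ) :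
    AlgSp.IsLimitPreserving (FlatFun.genPSp S (FreeGen f F p)) := by
  refine isLimitPreserving_genPSp _ (fun _ _ g h => freeGen_stable f F g h) fun I _ _ D c hc hD hT h => ?_
  classical
  obtain ⟨i₀⟩ : Nonempty I := IsCofiltered.nonempty
  haveI : ∀ i, IsAffine ((D ⋙ Over.forget S).obj i) := fun i => inferInstanceAs (IsAffine (D.obj i).left)
  haveI : IsAffine ((Over.forget S).mapCone c).pt := hT
  haveI (i j : I) (φ : i ⟶ j) : IsAffineHom ((D ⋙ Over.forget S).map φ) := inferInstance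
  haveI hsm : ∀ T : Over S, Smooth (PicF.XTproj f T) := fun T => MorphismProperty.pullback_snd (P := @Smooth) _ _ inferInstance
  haveI hgi : ∀ T : Over S, GeometricallyIrreducible (PicF.XTproj f T) := fun T =>
    inferInstanceAs (GeometricallyIrreducible (pullback.snd f T.hom))
  let V : ∀ k : I, Set (PicF.XT f (D.obj k)) := fun k =>
    {x | FlatFun.IsFreeOfRankNear (FGA.ET f F (D.obj k)) p x}
  have hV : ∀ k, IsOpen (V k) := fun k => isOpen_iff_forall_mem_open.2 fun x ⟨U, hxU, hU⟩ =>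
    ⟨U, fun y hy => ⟨U, hy, hU⟩, U.isOpen, hxU⟩
  let W : ∀ k : I, (D.obj k).left.Opens := fun k =>
    ⟨PicF.XTproj f (D.obj k) '' V k, (PicF.XTproj f (D.obj k)).isOpenMap _ (hV k)⟩
  have hmono : ∀ (j k : I) (φ : j ⟶ k) (t : (D.obj j).left), (D.map φ).left t ∈ W k → t ∈ W j := by
    rintro j k φ t ⟨x, hx, hxt⟩
    obtain ⟨w, hw1, hw2⟩ := Scheme.exists_preimage_of_isPullback (isPullback_XTmap f (D.map φ)) x t hxt
    exact ⟨w, freeNear_of_iso (FGA.ETiso f F (D.map φ)) (freeNear_pullback _ (hw1.symm ▸ hx)), hw2⟩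
  have hcov : ∀ t : c.pt.left, ∃ k, (c.π.app k).left t ∈ W k := fun t => by
    obtain ⟨x, hxt, -, hx⟩ := h t
    obtain ⟨k, hk⟩ := exists_stage_freeNear f F D c hF hc p x hx
    refine ⟨k, _, hk, ?_⟩
    rw [← hxt]
    exact congr(($((isPullback_XTmap f (c.π.app k)).w)) x)
  let Wc : I → Set c.pt.left := fun k => ((c.π.app k).left ⁻¹ᵁ W k : c.pt.left.Opens)
  obtain ⟨s, hs⟩ := isCompact_univ.elim_finite_subcover Wc
    (fun k => ((c.π.app k).left ⁻¹ᵁ W k).isOpen)
    (fun t _ => Set.mem_iUnion.2 ((hcov t).imp fun k hk => hk))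
  obtain ⟨j, hj⟩ := IsCofiltered.inf_objs_exists s
  have hjtop : ((Over.forget S).mapCone c).π.app j ⁻¹ᵁ ⊤ ≤ ((Over.forget S).mapCone c).π.app j ⁻¹ᵁ W j := by
    intro t _
    obtain ⟨k, hk, htk⟩ : ∃ k ∈ s, (c.π.app k).left t ∈ W k := by simpa [Wc] using hs (Set.mem_univ t)
    obtain ⟨φ⟩ := hj hk
    refine hmono j k φ _ ?_
    rw [← c.w φ] at htk
    exact htk
  obtain ⟨i, φ, hi⟩ := exists_map_preimage_le_map_preimage (D ⋙ Over.forget S) ((Over.forget S).mapCone c) hc
    (U := (⊤ : ((D ⋙ Over.forget S).obj j).Opens)) isCompact_univ hjtop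
  refine ⟨i, fun t => ?_⟩
  obtain ⟨x, hx, hxt⟩ := hmono i j φ t (hi (show t ∈ ((D ⋙ Over.forget S).map φ) ⁻¹ᵁ ⊤ from trivial))
  obtain ⟨z, hz, hgen⟩ := exists_generic (PicF.XTproj f (D.obj i)) t
  obtain ⟨U, hxU, hU⟩ := hx
  exact ⟨z, hz, hgen, U, (hgen x (hxt.trans hz.symm)).mem_open U.2 hxU, hU⟩

end GrothLib.FunFlat8
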