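import Groth.Prelude.Def_Fitting
import Groth.Agent.Lib.FunFlat8.FreeGenFlat
import Groth.Agent.Lib.SecLocus.Locus
import Groth.Agent.Lib.RankStratum9.Basic
import Groth.Agent.Lib.Fitting.Support
import Groth.Agent.Lib.AbsApprox.ClosedApprox

/-!
# The functor of freeness near the generic points of the fibres is an immersion
-/

set_option autoImplicit false
set_option linter.style.haveILetI false
set_option backward.isDefEq.respectTransparency false

universe u

open CategoryTheory CategoryTheory.Limits AlgebraicGeometry Opposite TopologicalSpace IsLocalRing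
open scoped TensorProduct

noncomputable section

namespace GrothLib.FunFlat8

/-- Factoring through a closed subscheme is killing its ideal. -/
theorem exists_fac_subschemeι_iff {Y W : Scheme.{u}} (I : Y.IdealSheafData) (m : W ⟶ Y) :
    (∃ l : W ⟶ I.subscheme, l ≫ I.subschemeι = m) ↔ I.comap m = ⊥ := by
  rw [← le_bot_iff (a := I.comap m), ← Scheme.IdealSheafData.le_map_iff_comap_le, Scheme.IdealSheafData.map_bot]
  constructor
  · rintro ⟨l, rfl⟩
    exact I.ker_subschemeι.ge.trans (Scheme.Hom.le_ker_comp l I.subschemeι)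
  · intro h
    exact ⟨IsClosedImmersion.lift I.subschemeι m (I.ker_subschemeι.trans_le h), IsClosedImmersion.lift_fac _ _ _⟩

section Ideals

variable {X : Scheme.{u}}

/-- The Fitting ideals below `p`. -/
def lowIdeal (F : X.Modules) : ℕ → X.IdealSheafData
  | 0 => ⊥
  | k + 1 => Fitt.sheafIdeal F k

variable {F : X.Modules} [F.IsQuasicoherent] (hF : CohB1.IsFT F)
include hF

theorem comap_lowIdeal {Z : Scheme.{u}} (g : Z ⟶ X) (p : ℕ) :
    (lowIdeal F p).comap g = lowIdeal ((Scheme.Modules.pullback g).obj F) p := by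
  cases p with
  | zero => exact Scheme.IdealSheafData.comap_bot g
  | succ k => exact Groth.Agent.S8872.result g F ‹_› hF k

theorem map_germ_lowIdeal_eq_bot_iff (p : ℕ) (U : X.affineOpens) {x : X} (hx : x ∈ U.1) :
    ((lowIdeal F p).ideal U).map (X.presheaf.germ U.1 x hx).hom = ⊥ ↔
      ∀ k, k < p → Fitt.ideal (X.presheaf.stalk x) (F.presheaf.stalk x) k = ⊥ := by
  haveI := finite_stalk hF x
  cases p with
  | zero => simp [lowIdeal, Scheme.IdealSheafData.ideal_bot]
  | succ k =>
    rw [lowIdeal, FittSheaf.map_germ_sheafIdeal hF k U hx]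
    exact ⟨fun h j hj => le_bot_iff.1 ((Fitting.ideal_mono (Nat.lt_succ_iff.1 hj)).trans h.le),
      fun h => h k k.lt_succ_self⟩

theorem notMem_support_iff (k : ℕ) (x : X) :
    x ∉ (Fitt.sheafIdeal F k).support ↔ Fitt.ideal (X.presheaf.stalk x) (F.presheaf.stalk x) k = ⊤ := by
  obtain ⟨U, hU, hx, -⟩ := exists_isAffineOpen_mem_and_subset (x := x) (U := ⊤) trivial
  haveI := FittSheaf.finite_sections hF ⟨U, hU⟩
  letI := X.presheaf.algebra_section_stalk ⟨x, hx⟩
  haveI := FlatFP.isLocalization_stalk_primeAt hU hx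
  rw [FittSheaf.notMem_support_iff_not_le hF k ⟨U, hU⟩ hx, ← FittSheaf.map_germ_ideal F hU hx k]
  constructor
  · intro h
    obtain ⟨a, ha, hna⟩ := SetLike.not_le_iff_exists.1 h
    exact Ideal.eq_top_of_isUnit_mem _ (Ideal.mem_map_of_mem _ ha)
      (IsLocalization.map_units (X.presheaf.stalk x) (⟨a, hna⟩ : (WeakAss.primeAt x hx).primeCompl))
  · intro h hle
    have h1 := (Ideal.map_mono hle (f := (X.presheaf.germ U x hx).hom))
    rw [h] at h1
    have h2 : (WeakAss.primeAt x hx).map (algebraMap Γ(X, U) (X.presheaf.stalk x)) = ⊤ := top_le_iff.1 h1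
    exact (IsLocalization.AtPrime.map_eq_maximalIdeal (WeakAss.primeAt x hx) (X.presheaf.stalk x) ▸ h2 :
      maximalIdeal (X.presheaf.stalk x) = ⊤) |> (maximalIdeal.isMaximal _).ne_top

end Ideals

variable {X S : Scheme.{u}} (f : X ⟶ S) [Smooth f] [GeometricallyIrreducible f]
  (F : X.Modules) [F.IsQuasicoherent]

/-- The points over which the generic point of the fibre is outside the `p`-th Fitting ideal. -/
def goodOpen (p : ℕ) : S.Opens :=
  ⟨f '' ((Fitt.sheafIdeal F p).support : Set X)ᶜ, f.isOpenMap _ (Fitt.sheafIdeal F p).support.isClosed.isOpen_compl⟩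

theorem freeGen_iff (hF : CohB1.IsFT F) (p : ℕ) (T : Over S) :
    FreeGen f F p T ↔ (∀ t : T.left, T.hom t ∈ goodOpen f F p) ∧
      (lowIdeal F p).comap (pullback.fst f T.hom) = ⊥ := by
  haveI : Smooth (PicF.XTproj f T) := MorphismProperty.pullback_snd (P := @Smooth) _ _ inferInstance
  haveI : GeometricallyIrreducible (PicF.XTproj f T) := inferInstanceAs (GeometricallyIrreducible (pullback.snd f T.hom))
  let G := FGA.ET f F T
  haveI hG : G.IsQuasicoherent := FittSheaf.isQuasicoherent_pullback (pullback.fst f T.hom) F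
  have hGft : CohB1.IsFT G := FunFlat6.isFT_pullback _ F hF
  have hw : ∀ z, f (pullback.fst f T.hom z) = T.hom (PicF.XTproj f T z) := fun z => by
    exact congr(($(pullback.condition (f := f) (g := T.hom))) z)
  have hsupp : ∀ z, z ∉ (Fitt.sheafIdeal G p).support ↔ pullback.fst f T.hom z ∉ (Fitt.sheafIdeal F p).support := by
    intro z
    rw [← Groth.Agent.S8872.result (pullback.fst f T.hom) F ‹_› hF p, Scheme.IdealSheafData.support_comap]
    rfl
  constructor
  · intro h
    have hb : ∀ z, FlatFun.IsGenericPtOfFibre (PicF.XTproj f T) z →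
        Nonempty (Module.Basis (Fin p) ((PicF.XT f T).presheaf.stalk z) (G.presheaf.stalk z)) := fun z hz => by
      obtain ⟨w, hw1, hw2, hfree⟩ := h (PicF.XTproj f T z)
      obtain rfl : w = z := ((hw2 z hw1.symm).antisymm (hz w hw1)).eq
      exact stalk_basis_of_freeNear hfree
    refine ⟨fun t => ?_, ?_⟩
    · obtain ⟨z, hz, hgen⟩ := exists_generic (PicF.XTproj f T) t
      obtain ⟨b⟩ := hb z hgen
      haveI := finite_stalk hGft z
      refine ⟨pullback.fst f T.hom z, (hsupp z).1 ((notMem_support_iff hGft p z).2 ?_), by rw [hw, hz]⟩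
      rw [Fitting.ideal_of_basis b p, if_pos le_rfl]
    · rw [comap_lowIdeal hF]
      refine Scheme.IdealSheafData.ext (funext fun U => FittSheaf.ideal_eq_of_germ U.2 fun y hy => ?_)
      rw [Scheme.IdealSheafData.ideal_bot, Pi.bot_apply, Ideal.map_bot, eq_bot_iff, Ideal.map_le_iff_le_comap]
      intro a ha
      obtain ⟨z, hz, hgen⟩ := exists_generic (PicF.XTproj f T) (PicF.XTproj f T y)
      have hzy : z ⤳ y := hgen y hz.symm
      have hzU : z ∈ U.1 := hzy.mem_open U.1.2 hy
      haveI := finite_stalk hGft z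
      obtain ⟨b⟩ := hb z hgen
      have h0 : ((lowIdeal G p).ideal U).map ((PicF.XT f T).presheaf.germ U.1 z hzU).hom = ⊥ :=
        (map_germ_lowIdeal_eq_bot_iff hGft p U hzU).2 fun k hk => by
          rw [Fitting.ideal_of_basis b k, if_neg (not_le.2 hk)]
      have h1 : (PicF.XT f T).presheaf.germ U.1 z hzU a = 0 :=
        (Submodule.mem_bot _).1 (h0.le (Ideal.mem_map_of_mem ((PicF.XT f T).presheaf.germ U.1 z hzU).hom ha))
      refine Ideal.mem_comap.2 ((Submodule.mem_bot _).2 ?_)
      refine spR_injective (PicF.XTproj f T) hzy hz ?_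
      rw [Ref1.spR_germ, map_zero, h1]
  · rintro ⟨hU, hlow⟩ t
    obtain ⟨x₀, hx₀, hgen₀⟩ := exists_generic (PicF.XTproj f T) t
    refine ⟨x₀, hx₀, hgen₀, freeNear_of_stalks _ hGft p (fun x hx => ?_) x₀ hgen₀⟩
    obtain ⟨y, hy, hfy⟩ := hU (PicF.XTproj f T x)
    obtain ⟨z, hz1, hz2⟩ := Scheme.exists_preimage_of_isPullback (IsPullback.of_hasPullback f T.hom) y (PicF.XTproj f T x) hfy
    have hzs : z ∉ (Fitt.sheafIdeal G p).support := (hsupp z).2 (hz1.symm ▸ hy)
    have hxs : x ∉ (Fitt.sheafIdeal G p).support := fun hmem =>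
      hzs ((hx z hz2).mem_closed (Fitt.sheafIdeal G p).support.isClosed hmem)
    haveI := finite_stalk hGft x
    refine RankStratum9.stalk_basis_of_ideals p ?_ ((notMem_support_iff hGft p x).1 hxs)
    obtain ⟨W, hW, hxW, -⟩ := exists_isAffineOpen_mem_and_subset (x := x) (U := ⊤) trivial
    refine (map_germ_lowIdeal_eq_bot_iff hGft p ⟨W, hW⟩ hxW).1 ?_
    rw [← comap_lowIdeal hF, hlow, Scheme.IdealSheafData.ideal_bot, Pi.bot_apply, Ideal.map_bot]

theorem isCompact_compl_support (hF : CohB1.IsFP F) (p : ℕ) (W : X.affineOpens) :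
    IsCompact ((W : Set X) ∩ ((Fitt.sheafIdeal F p).support : Set X)ᶜ) := by
  classical
  have hFt : CohB1.IsFT F := (QCoh.isFiniteType_iff_moduleFinite _).2 fun V hV =>
    haveI := FlatFP.finitePresentation_sections F hF hV; inferInstance
  haveI := FlatFP.finitePresentation_sections F hF W.2
  obtain ⟨s, hs⟩ := Fitting.ideal_fg (R := Γ(X, W.1)) (M := Γ(F, W.1)) p
  have heq : (W : Set X) ∩ ((Fitt.sheafIdeal F p).support : Set X)ᶜ = ⋃ a ∈ s, (X.basicOpen a : Set X) := by
    ext x
    simp only [Set.mem_inter_iff, Set.mem_compl_iff, Set.mem_iUnion, exists_prop]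
    constructor
    · rintro ⟨hxW, hx⟩
      have h1 := (FittSheaf.notMem_support_iff_not_le hFt p W hxW).1 hx
      by_contra hne
      push Not at hne
      refine h1 ?_
      rw [← hs, Ideal.span_le]
      intro a ha
      by_contra hna
      exact hne a ha (WeakAss.notMem_primeAt_iff.1 hna)
    · rintro ⟨a, ha, hxa⟩
      have hxW : x ∈ W.1 := X.basicOpen_le a hxa
      refine ⟨hxW, (FittSheaf.notMem_support_iff_not_le hFt p W hxW).2 fun h => ?_⟩
      exact (WeakAss.notMem_primeAt_iff (hx := hxW)).2 hxa (h (hs ▸ Ideal.subset_span ha))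
  rw [heq]
  exact s.isCompact_biUnion fun a _ => (W.2.basicOpen a).isCompact

theorem quasiCompact_goodOpen (hF : CohB1.IsFP F) (p : ℕ) : QuasiCompact (goodOpen f F p).ι := by
  classical
  refine quasiCompact_iff_forall_isAffineOpen.2 fun V hV => ?_
  rw [(goodOpen f F p).ι.isOpenEmbedding.isInducing.isCompact_iff]
  have hW : ∀ s : (V : Set S), ∃ W : X.affineOpens, (s : S) ∈ f '' (W : Set X) ∧ (W : Set X) ⊆ f ⁻¹' V := by
    rintro ⟨s, hs⟩
    obtain ⟨x, hx, -⟩ := exists_generic f s
    obtain ⟨W, hWa, hxW, hWV⟩ := exists_isAffineOpen_mem_and_subset (x := x) (U := f ⁻¹ᵁ V) (show f x ∈ V by rw [hx]; exact hs)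
    exact ⟨⟨W, hWa⟩, ⟨x, hxW, hx⟩, hWV⟩
  choose W hsW hWV using hW
  obtain ⟨t, ht⟩ := hV.isCompact.elim_finite_subcover (fun s : (V : Set S) => f '' (W s : Set X))
    (fun s => f.isOpenMap _ (W s).1.isOpen) (fun s hs => Set.mem_iUnion.2 ⟨⟨s, hs⟩, hsW ⟨s, hs⟩⟩)
  have heq : (goodOpen f F p).ι '' ((goodOpen f F p).ι ⁻¹ᵁ V : Set (goodOpen f F p)) =
      ⋃ i ∈ t, f '' ((W i : Set X) ∩ ((Fitt.sheafIdeal F p).support : Set X)ᶜ) := by
    ext s
    simp only [Set.mem_image, Set.mem_iUnion, exists_prop]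
    constructor
    · rintro ⟨s', hs', rfl⟩
      obtain ⟨i, hi, w, hw, hws⟩ : ∃ i ∈ t, ∃ w ∈ (W i : Set X), f w = (goodOpen f F p).ι s' := by
        simpa using ht hs'
      obtain ⟨y, hy, hys⟩ : ∃ y ∉ (Fitt.sheafIdeal F p).support, f y = (goodOpen f F p).ι s' := s'.2
      obtain ⟨ξ, hξ, hgen⟩ := exists_generic f (f y)
      refine ⟨i, hi, ξ, ⟨(hgen w (hws.trans (hys.symm.trans hξ.symm))).mem_open (W i).1.2 hw, fun hmem => ?_⟩,
        hξ.trans hys⟩
      exact hy ((hgen y hξ.symm).mem_closed (Fitt.sheafIdeal F p).support.isClosed hmem)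
    · rintro ⟨i, -, y, ⟨hyW, hy⟩, rfl⟩
      exact ⟨⟨f y, y, hy, rfl⟩, hWV i hyW, rfl⟩
  rw [heq]
  exact t.isCompact_biUnion fun i _ => (isCompact_compl_support F hF p (W i)).image f.continuous

theorem exists_immersion_freeGen (hF : CohB1.IsFT F) (p : ℕ) :
    ∃ Z : Over S, IsImmersion Z.hom ∧
      Nonempty ((FlatFun.genPSp S (FreeGen f F p)).RepresentableBy Z) ∧
      (CohB1.IsFP F → LocallyOfFinitePresentation Z.hom ∧ QuasiCompact Z.hom ∧ QuasiSeparated Z.hom) := by
  classical
  let J := lowIdeal F p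
  obtain ⟨Z₁, t₁, ht₁, hfac, hfp⟩ := SecLocus.exists_closed_locus f J.subschemeι
  haveI := ht₁
  let U := goodOpen f F p
  let Z : Over S := Over.mk (pullback.fst U.ι t₁ ≫ U.ι)
  haveI : IsImmersion Z.hom := inferInstanceAs (IsImmersion (pullback.fst U.ι t₁ ≫ U.ι))
  have hiff : ∀ T : Over S, FreeGen f F p T ↔ Nonempty (T ⟶ Z) := by
    intro T
    rw [freeGen_iff f F hF p T]
    have h2 : (lowIdeal F p).comap (pullback.fst f T.hom) = ⊥ ↔ ∃ g' : T.left ⟶ Z₁, g' ≫ t₁ = T.hom := by
      rw [hfac T.left T.hom, ← exists_fac_subschemeι_iff]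
      rfl
    rw [h2]
    constructor
    · rintro ⟨hU, g', hg'⟩
      have hr : Set.range T.hom ⊆ Set.range U.ι := by
        rintro _ ⟨t, rfl⟩; rw [Scheme.Opens.range_ι]; exact hU t
      let a := IsOpenImmersion.lift U.ι T.hom hr
      exact ⟨Over.homMk (pullback.lift a g' ((IsOpenImmersion.lift_fac _ _ hr).trans hg'.symm))
        (show pullback.lift a g' _ ≫ pullback.fst U.ι t₁ ≫ U.ι = T.hom by
          rw [pullback.lift_fst_assoc]; exact IsOpenImmersion.lift_fac _ _ hr)⟩
    · rintro ⟨g⟩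
      have hg : g.left ≫ pullback.fst U.ι t₁ ≫ U.ι = T.hom := Over.w g
      refine ⟨fun t => ?_, g.left ≫ pullback.snd U.ι t₁, ?_⟩
      · rw [← hg, Scheme.Hom.comp_apply, Scheme.Hom.comp_apply]
        exact (pullback.fst U.ι t₁ (g.left t)).2
      · rw [Category.assoc, ← pullback.condition]; exact hg
  haveI hmono : ∀ T : Over S, Subsingleton (T ⟶ Z) := fun T =>
    ⟨fun a b => Over.OverMorphism.ext ((cancel_mono Z.hom).1 ((Over.w a).trans (Over.w b).symm))⟩
  refine ⟨Z, inferInstance, ⟨?_⟩, fun hFP => ?_⟩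
  · refine
      { homEquiv := fun {T} =>
          { toFun := fun a => (FlatFun.genPSp_nonempty_of (FreeGen f F p) ((hiff T).2 ⟨a⟩)).some
            invFun := fun x => ((hiff T).1 ((FlatFun.genPSp_nonempty_iff_of_stable (FreeGen f F p)
              (fun _ _ g h => freeGen_stable f F g h) T).1 ⟨x⟩)).some
            left_inv := fun a => Subsingleton.elim _ _
            right_inv := fun x => Subsingleton.elim _ _ }
        homEquiv_comp := fun g a => Subsingleton.elim _ _ }
  · haveI hlfpJ : LocallyOfFinitePresentation J.subschemeι := by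
      refine AbsApprox.lfp_subschemeι J fun W => ?_
      show ((lowIdeal F p).ideal W).FG
      cases p with
      | zero => rw [lowIdeal, Scheme.IdealSheafData.ideal_bot, Pi.bot_apply]; exact Submodule.fg_bot
      | succ k =>
        rw [lowIdeal, FittSheaf.sheafIdeal_ideal hF]
        haveI := FlatFP.finitePresentation_sections F hFP W.2
        exact Fitting.ideal_fg k
    haveI := hfp hlfpJ
    haveI : LocallyOfFinitePresentation (pullback.fst U.ι t₁) :=
      MorphismProperty.pullback_fst _ _ inferInstance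
    haveI : QuasiCompact U.ι := quasiCompact_goodOpen f F hFP p
    exact ⟨inferInstanceAs (LocallyOfFinitePresentation (pullback.fst U.ι t₁ ≫ U.ι)),
      inferInstanceAs (QuasiCompact (pullback.fst U.ι t₁ ≫ U.ι)), inferInstance⟩

end GrothLib.FunFlat8
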